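import Groth.Agent.AbSquare57.Cube
import Groth.Agent.Var76.ActTrans
import Groth.Agent.S7785
import Groth.Agent.FBase64.Geometric

/-!
Rational points and translations of an abelian variety over an algebraically closed field.
-/

set_option autoImplicit false
set_option backward.isDefEq.respectTransparency.types false
universe u

open CategoryTheory CategoryTheory.Limits MonoidalCategory CartesianMonoidalCategory MonObj AlgebraicGeometry
open TopologicalSpace

noncomputable section

namespace Groth.Agent.Ampl73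

variable {K : Type u} [Field K] {A : Over (Spec (CommRingCat.of K))}

/-- rational points -/
abbrev Pts (A : Over (Spec (CommRingCat.of K))) := 𝟙_ (Over (Spec (CommRingCat.of K))) ⟶ A

/-- the underlying point of a rational point -/
def pt (σ : Pts A) : A.left := σ.left (IsLocalRing.closedPoint K)

theorem pt_comp (σ : Pts A) (φ : A ⟶ A) : pt (σ ≫ φ) = φ.left (pt σ) := by
  simp only [pt, Over.comp_left, Scheme.Hom.comp_apply]

theorem exists_pt [IsAlgClosed K] [LocallyOfFiniteType A.hom] (x : A.left) (hx : IsClosed ({x} : Set A.left)) :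
    ∃ σ : Pts A, pt σ = x :=
  ⟨Var76.ActTrans.sec A x hx, Var76.ActTrans.sec_apply A x hx _⟩

theorem pt_injective [IsAlgClosed K] [LocallyOfFiniteType A.hom] : Function.Injective (pt (A := A)) :=
  fun σ τ h => Over.OverMorphism.ext (ext_of_apply_closedPoint_eq A.hom (Over.w σ) (Over.w τ) h)

theorem isClosed_pt [IsSeparated A.hom] (σ : Pts A) : IsClosed ({pt σ} : Set A.left) := by
  have := isClosedImmersion_of_comp_eq_id A.hom σ.left (Over.w σ)
  have h := σ.left.isClosedEmbedding.isClosed_range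
  have e : Set.range σ.left = ({pt σ} : Set A.left) := by
    have : Nonempty (𝟙_ (Over (Spec (CommRingCat.of K)))).left := ⟨IsLocalRing.closedPoint K⟩
    refine Set.range_eq_singleton fun x => congrArg σ.left ?_
    exact Subsingleton.elim (α := PrimeSpectrum K) _ _
  rwa [e] at h

variable [GrpObj A]

/-- right translation -/
abbrev rT (a : Pts A) : A ⟶ A := 𝟙 A * (toUnit A ≫ a)

theorem comp_rT {T : Over (Spec (CommRingCat.of K))} (x : T ⟶ A) (a : Pts A) :
    x ≫ rT a = x * (toUnit T ≫ a) := by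
  rw [rT, MonObj.comp_mul, Category.comp_id, ← Category.assoc, comp_toUnit]

theorem pts_comp_rT (σ a : Pts A) : σ ≫ rT a = σ * a := by
  rw [comp_rT, toUnit_unique (toUnit _) (𝟙 _), Category.id_comp]

theorem rT_pt (σ a : Pts A) : (rT a).left (pt σ) = pt (σ * a) := by
  rw [← pt_comp, pts_comp_rT]

theorem rT_comp_rT (a b : Pts A) : rT a ≫ rT b = rT (a * b) := by
  rw [comp_rT, rT, rT, _root_.mul_assoc, ← MonObj.comp_mul]

theorem rT_one : rT (1 : Pts A) = 𝟙 A := by rw [rT, MonObj.comp_one, _root_.mul_one]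

instance isIso_rT (a : Pts A) : IsIso (rT a).left :=
  have : IsIso (rT a) := ⟨⟨rT a⁻¹, by rw [rT_comp_rT, mul_inv_cancel, rT_one], by
    rw [rT_comp_rT, inv_mul_cancel, rT_one]⟩⟩
  inferInstanceAs (IsIso ((Over.forget _).map (rT a)))

theorem rT_left_comp (a b : Pts A) : (rT a).left ≫ (rT b).left = (rT (a * b)).left := by
  rw [← Over.comp_left, rT_comp_rT]

theorem rT_apply_apply (a b : Pts A) (x : A.left) : (rT b).left ((rT a).left x) = (rT (a * b)).left x := by
  rw [← Scheme.Hom.comp_apply, rT_left_comp]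

variable [IsProper A.hom] [GeometricallyIntegral A.hom]

omit [GrpObj A] [IsProper A.hom] in
theorem isIntegral_left : IsIntegral A.left := GeometricallyIntegral.isIntegral_of_subsingleton A.hom

theorem mul_comm_pts (a b : Pts A) : a * b = b * a := by
  have : GeometricallyConnected A.hom := FBase64.geometricallyConnected_of_geometricallyIrreducible _
  have : Flat A.hom := inferInstance
  have : LocallyOfFinitePresentation A.hom := inferInstance
  have : IsCommMonObj A := Groth.Agent.S7785.result A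
  exact _root_.mul_comm a b

/-- Translations preserve the product with the inverse. -/
theorem exists_common_point [IsAlgClosed K] {U : A.left.Opens} (hU : (U : Set A.left).Nonempty)
    (σ a : Pts A) : ∃ b : Pts A, pt (σ * b) ∈ U ∧ pt (σ * (a * b)⁻¹) ∈ U := by
  have := isIntegral_left (A := A)
  have : JacobsonSpace A.left := LocallyOfFiniteType.jacobsonSpace A.hom
  -- `ψ p = σ * p⁻¹ * σ * a⁻¹`
  let ψ : A ⟶ A := (𝟙 A)⁻¹ ≫ rT (σ * σ * a⁻¹)
  have hinv : IsIso ((𝟙 A)⁻¹ : A ⟶ A) :=
    ⟨⟨(𝟙 A)⁻¹, by simp [GrpObj.comp_inv], by simp [GrpObj.comp_inv]⟩⟩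
  have hψ : IsIso ψ.left := by
    have : IsIso ((𝟙 A)⁻¹ : A ⟶ A).left := inferInstanceAs (IsIso ((Over.forget _).map ((𝟙 A)⁻¹ : A ⟶ A)))
    show IsIso (((𝟙 A)⁻¹ : A ⟶ A).left ≫ (rT (σ * σ * a⁻¹)).left)
    infer_instance
  have h1 : ((ψ.left ⁻¹ᵁ U : A.left.Opens) : Set A.left).Nonempty := by
    obtain ⟨u, hu⟩ := hU
    obtain ⟨v, rfl⟩ := ψ.left.surjective u
    exact ⟨v, hu⟩
  obtain ⟨x, ⟨hx1, hx2⟩, hxc⟩ := nonempty_inter_closedPoints
    (nonempty_preirreducible_inter U.2 (ψ.left ⁻¹ᵁ U).2 hU h1) (U.2.inter (ψ.left ⁻¹ᵁ U).2).isLocallyClosed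
  obtain ⟨p, rfl⟩ := exists_pt (A := A) x hxc
  refine ⟨σ⁻¹ * p, by rwa [mul_inv_cancel_left], ?_⟩
  have e : σ * (a * (σ⁻¹ * p))⁻¹ = p ≫ ψ := by
    rw [show p ≫ ψ = (p ≫ (𝟙 A)⁻¹) ≫ rT (σ * σ * a⁻¹) from (Category.assoc _ _ _).symm,
      GrpObj.comp_inv, Category.comp_id, pts_comp_rT, mul_inv_rev, mul_inv_rev, inv_inv, ← _root_.mul_assoc,
      ← _root_.mul_assoc, mul_comm_pts σ p⁻¹]
    simp only [_root_.mul_assoc]
  rw [e, pt_comp]
  exact hx2

end Groth.Agent.Ampl73
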