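import Groth.Agent.S3572
import Groth.Agent.Amp73.QA
import Groth.Agent.Amp73.PullTensor
import Groth.Agent.EGA73.VeryAmplePnAmple
import Groth.Agent.EGA73.ImmersionPn
import Groth.Agent.Curves2.CurveComponents
import Groth.Agent.Curves2.ProjLineProper
import Mathlib.AlgebraicGeometry.ZariskisMainTheorem

/-!
A semi-ample invertible module which is not ample contracts an infinite irreducible closed subset: every
non-vanishing locus of a section of a power either contains it or misses it.
-/

set_option autoImplicit false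
universe u

open CategoryTheory CategoryTheory.Limits AlgebraicGeometry TopologicalSpace Opposite

noncomputable section

namespace Groth.Agent.Ampl73

open Var76.LineBundle Var76.ZeroScheme Amp73

/-- A morphism proper over a field with finite fibres over closed points is finite. -/
theorem isFinite_of_finite_fibres {k : Type u} [Field k] {X Y : Scheme.{u}} (g : Y ⟶ Spec (CommRingCat.of k))
    [LocallyOfFiniteType g] (f : X ⟶ Y) [IsProper f]
    (h : ∀ y : Y, IsClosed ({y} : Set Y) → (f ⁻¹' {y}).Finite) : IsFinite f := by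
  have : JacobsonSpace X := LocallyOfFiniteType.jacobsonSpace (f ≫ g)
  have key : ∀ x : X, IsClosed ({x} : Set X) → f.QuasiFiniteAt x := by
    intro x hx
    rw [Scheme.Hom.quasiFiniteAt_iff_isOpen_singleton_asFiber]
    have hfx : IsClosed ({f x} : Set Y) := by
      simpa using f.isClosedMap _ hx
    have : Finite (f ⁻¹' {f x}) := (h _ hfx).to_subtype
    have : Finite (f.fiber (f x)) := Finite.of_equiv _ (f.fiberHomeo (f x)).symm.toEquiv
    have : LocallyOfFiniteType (f.fiberToSpecResidueField (f x)) :=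
      MorphismProperty.of_isPullback (IsPullback.of_hasPullback f _) (inferInstance : LocallyOfFiniteType f)
    have : JacobsonSpace (f.fiber (f x)) := LocallyOfFiniteType.jacobsonSpace (f.fiberToSpecResidueField (f x))
    exact isOpen_discrete _
  have htop : f.quasiFiniteLocus = ⊤ := by
    by_contra hne
    have hc : ((f.quasiFiniteLocus : Set X)ᶜ).Nonempty := by
      by_contra hh
      exact hne (Opens.ext (Set.eq_univ_of_forall fun x => by_contra fun hx => hh ⟨x, hx⟩))
    obtain ⟨x, hx, hxc⟩ := nonempty_inter_closedPoints hc f.quasiFiniteLocus.2.isClosed_compl.isLocallyClosed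
    exact hx (key x hxc)
  have : LocallyQuasiFinite f := (Scheme.Hom.quasiFiniteLocus_eq_top_iff f).1 htop
  exact IsFinite.of_isProper_of_locallyQuasiFinite f

/-- On a scheme whose functions form a field, a section of a module with a frame generates everywhere or nowhere. -/
theorem genLocus_eq_bot_or_top {X : Scheme.{u}} (hΓ : IsField Γ(X, ⊤)) {L : X.Modules} {e : Γ(L, ⊤)}
    (he : IsFrame L ⊤ e) (s : Coh.structureModule X ⟶ L) :
    CohB1.genLocus L s = ⊥ ∨ CohB1.genLocus L s = ⊤ := by
  obtain ⟨c, hc⟩ := exists_coord s he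
  have h := genLocus_inf_eq_basicOpen s he hc
  rw [inf_top_eq] at h
  by_cases h0 : c = 0
  · exact Or.inl (h.trans (by rw [h0]; exact X.basicOpen_zero ⊤))
  · obtain ⟨b, hb⟩ := hΓ.mul_inv_cancel h0
    exact Or.inr (h.trans (X.basicOpen_of_isUnit (IsUnit.of_mul_eq_one b hb)))

/-- The contracted subset. -/
theorem exists_contracted {k : Type u} [Field k] {X : Scheme.{u}} (f : X ⟶ Spec (CommRingCat.of k)) [IsProper f]
    {L : X.Modules} (hL : PicF.IsInvertible L) (hcov : ∀ x : X, ∃ G ∈ GenSet L, x ∈ G)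
    (hna : ¬ CohB1.IsAmple L) :
    ∃ F : Closeds X, IsIrreducible (F : Set X) ∧ (F : Set X).Infinite ∧
      ∀ G ∈ GenSet L, ((G : Set X) ∩ F).Nonempty → (F : Set X) ⊆ G := by
  classical
  have : CompactSpace X := QuasiCompact.compactSpace_of_compactSpace f
  choose G hG hxG using hcov
  obtain ⟨T, hT⟩ := isCompact_univ.elim_finite_subcover (fun x : X => (G x : Set X)) (fun x => (G x).2)
    (fun x _ => Set.mem_iUnion.2 ⟨x, hxG x⟩)
  choose n s hs using hG
  let N := ∏ x ∈ T, (n x + 1)
  have hN : 0 < N := Finset.prod_pos fun x _ => Nat.succ_pos _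
  have hs' : ∀ x ∈ T, ∃ t : Coh.structureModule X ⟶ CohB1.tensorPow L N, CohB1.genLocus _ t = G x := by
    intro x hx
    obtain ⟨m, hm⟩ : n x + 1 ∣ N := Finset.dvd_prod_of_mem (fun y => n y + 1) hx
    have hmN : 0 < m := Nat.pos_of_mul_pos_left (hm ▸ hN)
    obtain ⟨t, ht⟩ := exists_genLocus_pow hL (s x) hmN
    exact ⟨t ≫ eqToHom (congrArg _ hm.symm), (genLocus_comp_iso _ _).trans (ht.trans (hs x))⟩
  choose t ht using hs'
  let e := T.equivFin
  let M := CohB1.tensorPow L N
  let u : Fin (T.card + 1) → ProjUP.Γm M :=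
    Fin.cons 0 fun i => val M (t (e.symm i).1 (e.symm i).2) ⊤
  have hu : ProjUP.GeneratedBy M u := EGA73.ImmersionPn.generatedBy_of_genLocus M u fun x => by
    obtain ⟨y, hy, hxy⟩ := Set.mem_iUnion₂.1 (hT (Set.mem_univ x))
    refine ⟨Fin.succ (e ⟨y, hy⟩), ?_⟩
    have hval : u (Fin.succ (e ⟨y, hy⟩)) = val M (t y hy) ⊤ := by simp [u]
    have h2 : ∀ W, val M (Var76.Frames.ofSection M (u (Fin.succ (e ⟨y, hy⟩)))) W = val M (t y hy) W :=
      fun W => by rw [Var76.Frames.val_ofSection, hval, res_val]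
    have h3 : G y ≤ CohB1.genLocus M (Var76.Frames.ofSection M (u (Fin.succ (e ⟨y, hy⟩)))) := by
      rw [← isFrame_iff_le_genLocus, h2, isFrame_iff_le_genLocus]
      exact (ht y hy).ge
    exact h3 hxy
  obtain ⟨r, hr, τ, -⟩ := Groth.Agent.S3572.result T.card f M (EGA73.isInvertible_tensorPow hL N) u hu
  have : IsProper (CohB1.ProjSpace.toSpec T.card k) := Curves2.ProjLine.isProper_toSpec k T.card
  have : IsProper (r ≫ CohB1.ProjSpace.toSpec T.card k) := hr ▸ inferInstance
  have : IsProper r := IsProper.of_comp r (CohB1.ProjSpace.toSpec T.card k)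
  -- some fibre over a closed point is infinite
  obtain ⟨p, hp, hinf⟩ : ∃ p : CohB1.ProjSpace T.card k, IsClosed ({p} : Set _) ∧ (r ⁻¹' {p}).Infinite := by
    by_contra hh
    push Not at hh
    have := isFinite_of_finite_fibres (CohB1.ProjSpace.toSpec T.card k) r fun y hy => hh y hy
    have hamp := isAmple_pullback r (isQuasiAffine_of_isAffineHom r)
      (EGA73.VeryAmplePnAmple.isAmple_twistProjSpace k T.card)
    exact hna ((isAmple_tensorPow_iff hL hN).2 (isAmple_of_iso τ hamp))
  have : IsLocallyNoetherian X := LocallyOfFiniteType.isLocallyNoetherian f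
  have : AlgebraicGeometry.IsNoetherian X := {}
  have hcl : IsClosed (r ⁻¹' {p}) := hp.preimage r.continuous
  obtain ⟨S, hSfin, hSc, hS, hSeq⟩ := NoetherianSpace.exists_finite_set_isClosed_irreducible hcl
  obtain ⟨F, hFS, hFinf⟩ : ∃ F ∈ S, F.Infinite := by
    by_contra hh
    push Not at hh
    rw [hSeq, Set.sUnion_eq_biUnion] at hinf
    exact hinf (hSfin.biUnion fun F hF => hh F hF)
  have hFirr := hSc F hFS
  have hFc := hS F hFS
  let F' : Closeds X := ⟨F, hFirr⟩
  refine ⟨F', hFc, hFinf, fun G' hG' hne => ?_⟩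
  let ι := (Scheme.IdealSheafData.vanishingIdeal F').subschemeι
  have hrange : Set.range ι = F := by
    rw [Scheme.IdealSheafData.range_subschemeι, Scheme.IdealSheafData.coe_support_vanishingIdeal]; rfl
  have := Curves2.isIntegral_vanishingIdeal F' hFc
  have : IsProper (ι ≫ f) := inferInstance
  have hΓ : IsField Γ((Scheme.IdealSheafData.vanishingIdeal F').subscheme, ⊤) :=
    isField_of_universallyClosed k (ι ≫ f)
  -- the power is trivial on the subscheme
  obtain ⟨W, hpW, -, eW, heW⟩ := Mero90.exists_affine_frame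
    (EGA73.VeryAmplePnAmple.isAmple_twistProjSpace k T.card).1 p ⊤ trivial
  have htop : (ι ≫ r) ⁻¹ᵁ W.1 = ⊤ := by
    refine Opens.ext (Set.eq_univ_of_forall fun z => ?_)
    have hz : ι z ∈ r ⁻¹' {p} := by
      rw [hSeq]
      exact ⟨F, hFS, hrange ▸ ⟨z, rfl⟩⟩
    show r (ι z) ∈ W.1
    rw [Set.mem_singleton_iff.1 hz]
    exact hpW
  let LF := (Scheme.Modules.pullback ι).obj L
  have hLF : PicF.IsInvertible LF := isInvertible_pullback ι hL
  let φ : (Scheme.Modules.pullback (ι ≫ r)).obj (Twist.twistProjSpace T.card k 1) ≅ CohB1.tensorPow LF N :=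
    ((Scheme.Modules.pullbackComp ι r).app _).symm ≪≫ (Scheme.Modules.pullback ι).mapIso τ ≪≫
      pullPowIso ι hL N
  have he := isFrame_pullS (ι ≫ r) (EGA73.VeryAmplePnAmple.isAmple_twistProjSpace k T.card).1 heW
  have he2 := (isFrame_app_iff φ.hom _).2 he
  have hfr : ∃ e0 : Γ(CohB1.tensorPow LF N, ⊤), IsFrame _ ⊤ e0 := by
    revert he2
    generalize φ.hom.app _ _ = e1
    revert e1
    rw [htop]
    exact fun e1 h => ⟨e1, h⟩
  obtain ⟨e0, he0⟩ := hfr
  obtain ⟨m, σ, hσ⟩ := mem_genSet_tensorPow hLF hN (preimage_mem_genSet ι hL hG')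
  rcases genLocus_eq_bot_or_top hΓ (isFrame_epow he0 (m + 1)) σ with h | h
  · exfalso
    obtain ⟨x, hxG', hxF⟩ := hne
    obtain ⟨z, rfl⟩ := hrange.ge hxF
    have hz : z ∈ ι ⁻¹ᵁ G' := hxG'
    rw [← hσ, h] at hz
    exact hz
  · intro x hx
    obtain ⟨z, rfl⟩ := hrange.ge hx
    exact show z ∈ ι ⁻¹ᵁ G' from hσ ▸ h.ge trivial

end Groth.Agent.Ampl73
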