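import Groth.Agent.Ampl73.Contracted
import Groth.Agent.Ampl73.Points

/-!
On an abelian variety the differences of a contracted subset preserve the non-vanishing locus of a section.
-/

set_option autoImplicit false
set_option backward.isDefEq.respectTransparency.types false
universe u

open CategoryTheory CategoryTheory.Limits MonoidalCategory CartesianMonoidalCategory MonObj AlgebraicGeometry
open TopologicalSpace

noncomputable section

namespace Groth.Agent.Ampl73

open AbSquare57 (pb)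

variable {K : Type u} [Field K] [IsAlgClosed K] {A : Over (Spec (CommRingCat.of K))} [GrpObj A] [IsProper A.hom]
  [GeometricallyIntegral A.hom]

omit [IsAlgClosed K] in
theorem triple_pic (c : AbSquare57.Pic A.left) {a b d : Pts A} (h : a * b * d = 1) :
    pb (rT a).left c * pb (rT b).left c * pb (rT d).left c = c ^ 3 := by
  rw [← AbSquare57.square c a b, _root_.mul_assoc, _root_.mul_comm c, ← _root_.mul_assoc,
    ← AbSquare57.square c (a * b) d, h]
  show pb (rT (1 : Pts A)).left c * c * c = c ^ 3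
  rw [rT_one, Over.id_left, AbSquare57.pb_id, pow_three, _root_.mul_assoc]

/-- The intersection of three translates with product one is a non-vanishing locus. -/
theorem mem_genSet_triple {L : A.left.Modules} (hL : PicF.IsInvertible L) (s : Coh.structureModule A.left ⟶ L)
    {a b d : Pts A} (h : a * b * d = 1) :
    (rT a).left ⁻¹ᵁ CohB1.genLocus L s ⊓ (rT b).left ⁻¹ᵁ CohB1.genLocus L s ⊓
      (rT d).left ⁻¹ᵁ CohB1.genLocus L s ∈ Amp73.GenSet L := by
  let P : Pts A → A.left.Modules := fun a => (Scheme.Modules.pullback (rT a).left).obj L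
  have hP : ∀ a, PicF.IsInvertible (P a) := fun a => Amp73.isInvertible_pullback _ hL
  have hm : ∀ a, (rT a).left ⁻¹ᵁ CohB1.genLocus L s ∈ Amp73.GenSet (P a) := fun a =>
    Amp73.preimage_mem_genSet _ hL (Amp73.mem_genSet_one s)
  have h1 := Amp73.inf_mem_genSet_tensor (EGA73.isInvertible_tensorMod (hP a) (hP b)) (hP d)
    (Amp73.inf_mem_genSet_tensor (hP a) (hP b) (hm a) (hm b)) (hm d)
  have h3 : Nonempty (CohB1.tensorMod (CohB1.tensorMod (P a) (P b)) (P d) ≅ CohB1.tensorPow L 3) := by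
    rw [← PicGrp.cl_eq_cl_iff]
    refine Eq.trans ?_ (PicGrp.cls_pow_val hL 3)
    rw [← triple_pic (PicGrp.cls L hL) h]
    rw [AbSquare57.pb_cls, AbSquare57.pb_cls, AbSquare57.pb_cls, PicGrp.mul_val, PicGrp.mul_val]
    rfl
  obtain ⟨e⟩ := h3
  exact Amp73.mem_genSet_of_tensorPow (by norm_num) (Amp73.mem_genSet_of_iso e.hom h1)

variable {L : A.left.Modules} (hL : PicF.IsInvertible L) (s : Coh.structureModule A.left ⟶ L)
  (hne : (CohB1.genLocus L s : Set A.left).Nonempty)

include hL hne in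
theorem covered (x : A.left) : ∃ G ∈ Amp73.GenSet L, x ∈ G := by
  have : CompactSpace A.left := QuasiCompact.compactSpace_of_compactSpace A.hom
  have : JacobsonSpace A.left := LocallyOfFiniteType.jacobsonSpace A.hom
  obtain ⟨z, hz, hzc⟩ := IsClosed.exists_closed_singleton (S := closure ({x} : Set A.left)) isClosed_closure
    ⟨x, subset_closure rfl⟩
  obtain ⟨σ, rfl⟩ := exists_pt (A := A) z hzc
  obtain ⟨w, hw, hwc⟩ := nonempty_inter_closedPoints hne (CohB1.genLocus L s).2.isLocallyClosed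
  obtain ⟨p, rfl⟩ := exists_pt (A := A) w hwc
  obtain ⟨b, hb, hd⟩ := exists_common_point hne σ (σ⁻¹ * p)
  have hG := mem_genSet_triple hL s (mul_inv_cancel ((σ⁻¹ * p) * b))
  refine ⟨_, hG, (specializes_iff_mem_closure.2 hz).mem_open (TopologicalSpace.Opens.isOpen _)
    (SetLike.mem_coe.2 ⟨⟨?_, ?_⟩, ?_⟩)⟩
  · show (rT _).left (pt σ) ∈ CohB1.genLocus L s
    rwa [rT_pt, mul_inv_cancel_left]
  · show (rT _).left (pt σ) ∈ CohB1.genLocus L s
    rwa [rT_pt]
  · show (rT _).left (pt σ) ∈ CohB1.genLocus L s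
    rwa [rT_pt]

variable {F : Closeds A.left} (hF : ∀ G ∈ Amp73.GenSet L, ((G : Set A.left) ∩ F).Nonempty → (F : Set A.left) ⊆ G)

include hL hne hF in
/-- A translate of a contracted set is in the locus or disjoint from it. -/
theorem translate_dichotomy (a : Pts A) {x : A.left} (hx : x ∈ F) (hxa : (rT a).left x ∈ CohB1.genLocus L s)
    {y : A.left} (hy : y ∈ F) : (rT a).left y ∈ CohB1.genLocus L s := by
  have : JacobsonSpace A.left := LocallyOfFiniteType.jacobsonSpace A.hom
  obtain ⟨z, ⟨hzU, hzF⟩, hzc⟩ := nonempty_inter_closedPoints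
    (Z := ((rT a).left ⁻¹ᵁ CohB1.genLocus L s : Set A.left) ∩ F) ⟨x, hxa, hx⟩
    (IsLocallyClosed.inter ((rT a).left ⁻¹ᵁ CohB1.genLocus L s).2.isLocallyClosed F.isClosed.isLocallyClosed)
  obtain ⟨σ, rfl⟩ := exists_pt (A := A) z hzc
  obtain ⟨b, hb, hd⟩ := exists_common_point hne σ a
  have hG := hF _ (mem_genSet_triple hL s (mul_inv_cancel (a * b))) ⟨pt σ, ⟨⟨hzU, ?_⟩, ?_⟩, hzF⟩
  · exact (hG hy).1.1
  · show (rT b).left (pt σ) ∈ CohB1.genLocus L s
    rwa [rT_pt]
  · show (rT _).left (pt σ) ∈ CohB1.genLocus L s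
    rwa [rT_pt]

theorem opens_eq_of_closedPoints {X : Scheme.{u}} [JacobsonSpace X] {U V : X.Opens}
    (h : ∀ x : X, IsClosed ({x} : Set X) → (x ∈ U ↔ x ∈ V)) : U = V := by
  suffices key : ∀ {U V : X.Opens}, (∀ x : X, IsClosed ({x} : Set X) → x ∈ U → x ∈ V) → U ≤ V from
    le_antisymm (key fun x hx => (h x hx).1) (key fun x hx => (h x hx).2)
  intro U V h x hx
  by_contra hxV
  obtain ⟨z, ⟨hzU, hzV⟩, hzc⟩ := nonempty_inter_closedPoints (Z := (U : Set X) ∩ (V : Set X)ᶜ) ⟨x, hx, hxV⟩
    (U.2.isLocallyClosed.inter V.2.isClosed_compl.isLocallyClosed)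
  exact hzV (h z hzc hzU)

include hL hne hF in
/-- Differences of points of a contracted set preserve the locus. -/
theorem diff_preserves {σ₀ σ : Pts A} (h₀ : pt σ₀ ∈ F) (h : pt σ ∈ F) :
    (rT (σ * σ₀⁻¹)).left ⁻¹ᵁ CohB1.genLocus L s = CohB1.genLocus L s := by
  have : JacobsonSpace A.left := LocallyOfFiniteType.jacobsonSpace A.hom
  refine opens_eq_of_closedPoints fun x hx => ?_
  obtain ⟨τ, rfl⟩ := exists_pt (A := A) x hx
  have e1 : (rT (σ₀⁻¹ * τ)).left (pt σ₀) = pt τ := by rw [rT_pt, mul_inv_cancel_left]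
  have e2 : (rT (σ₀⁻¹ * τ)).left (pt σ) = (rT (σ * σ₀⁻¹)).left (pt τ) := by
    rw [rT_pt, rT_pt, ← _root_.mul_assoc, mul_comm_pts τ (σ * σ₀⁻¹)]
  constructor
  · intro ht
    have := translate_dichotomy hL s hne hF (σ₀⁻¹ * τ) h (by rw [e2]; exact ht) h₀
    rwa [e1] at this
  · intro ht
    have := translate_dichotomy hL s hne hF (σ₀⁻¹ * τ) h₀ (by rw [e1]; exact ht) h
    rwa [e2] at this

omit [GrpObj A] [GeometricallyIntegral A.hom] in
/-- An infinite closed set has infinitely many rational points. -/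
theorem infinite_pts (hinf : (F : Set A.left).Infinite) : {σ : Pts A | pt σ ∈ F}.Infinite := by
  intro hfin
  have : JacobsonSpace A.left := LocallyOfFiniteType.jacobsonSpace A.hom
  have h1 : ((F : Set A.left) ∩ closedPoints A.left).Finite := by
    refine (hfin.image (pt (A := A))).subset fun x hx => ?_
    obtain ⟨σ, rfl⟩ := exists_pt (A := A) x hx.2
    exact ⟨σ, hx.1, rfl⟩
  have h2 : IsClosed ((F : Set A.left) ∩ closedPoints A.left) := by
    rw [← Set.biUnion_of_singleton ((F : Set A.left) ∩ closedPoints A.left)]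
    exact h1.isClosed_biUnion fun x hx => hx.2
  have h3 := JacobsonSpace.closure_inter_closedPoints_eq_closure F.isClosed.isLocallyClosed
  rw [h2.closure_eq, F.isClosed.closure_eq] at h3
  exact hinf (h3 ▸ h1)

include hL hne in
/-- If the module is not ample some infinite irreducible set has this property. -/
theorem exists_contracted_differences (hna : ¬ CohB1.IsAmple L) :
    ∃ F : Closeds A.left, IsIrreducible (F : Set A.left) ∧ {σ : Pts A | pt σ ∈ F}.Infinite ∧
      ∀ G ∈ Amp73.GenSet L, ((G : Set A.left) ∩ F).Nonempty → (F : Set A.left) ⊆ G := by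
  obtain ⟨F, hirr, hinf, hF⟩ := exists_contracted A.hom hL (covered hL s hne) hna
  exact ⟨F, hirr, infinite_pts hinf, hF⟩

end Groth.Agent.Ampl73
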