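import Groth.Agent.Ampl73.Group
import Groth.Agent.S14419
import Groth.Agent.Cube73.Dichotomy
import Groth.Agent.FBase64.Geometric
import Groth.Agent.FBase64.PointCmp

/-!
An invertible module with a section whose class is fixed by finitely many translations only is ample.
-/

set_option autoImplicit false
set_option maxSynthPendingDepth 6
set_option linter.style.haveILetI false
set_option backward.isDefEq.respectTransparency.types false
universe u

open CategoryTheory CategoryTheory.Limits MonoidalCategory CartesianMonoidalCategory MonObj AlgebraicGeometry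
open TopologicalSpace

noncomputable section

namespace Groth.Agent.Ampl73

open AbSquare57 (pb pb_comp pb_cls pb_cls_eq_one_iff)

variable {K : Type u} [Field K]

theorem geometricallyIntegral_of_isIntegral [IsAlgClosed K] {X : Scheme.{u}} (f : X ⟶ Spec (CommRingCat.of K))
    [LocallyOfFiniteType f] [IsIntegral X] : GeometricallyIntegral f := by
  have h1 : IsIso (Spec.map (CommRingCat.ofHom (algebraMap K K))) :=
    inferInstanceAs (IsIso (Spec.map (𝟙 (CommRingCat.of K))))
  have h2 : IsIso (pullback.fst f (Spec.map (CommRingCat.ofHom (algebraMap K K)))) :=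
    MorphismProperty.pullback_fst (P := MorphismProperty.isomorphisms Scheme.{u}) _ _ h1
  let p := pullback.fst f (Spec.map (CommRingCat.ofHom (algebraMap K K)))
  have : IrreducibleSpace ↥(pullback f (Spec.map (CommRingCat.ofHom (algebraMap K K)))) :=
    p.homeomorph.irreducibleSpace_iff.2 inferInstance
  have : AlgebraicGeometry.IsReduced (pullback f (Spec.map (CommRingCat.ofHom (algebraMap K K)))) :=
    isReduced_of_isOpenImmersion p
  have : AlgebraicGeometry.IsReduced (FBase.bc f K) := ‹_›
  have : GeometricallyReduced f := FBase64.geometricallyReduced_of_isReduced_perfect f K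
  have : GeometricallyIrreducible f := FBase64.geometricallyIrreducible_of_sepClosed f (algebraMap K K)
  exact GeometricallyIntegral.of_geometricallyReduced_of_geometricallyIrreducible f

theorem fromSpecResidueField_pt [IsAlgClosed K] {A : Over (Spec (CommRingCat.of K))} [IsProper A.hom] (τ : Pts A) :
    A.left.fromSpecResidueField (pt τ) = (A.left.fromSpecResidueField (pt τ) ≫ A.hom) ≫ τ.left := by
  have h : τ.left = pointOfClosedPoint A.hom (pt τ) (isClosed_pt τ) :=
    ext_of_apply_closedPoint_eq A.hom (Over.w τ) (pointOfClosedPoint_comp _ _ _)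
      (pointOfClosedPoint_apply _ _ _ _).symm
  rw [h, ← SpecMap_residueFieldIsoBase_inv A.hom (pt τ) (isClosed_pt τ), pointOfClosedPoint, ← Category.assoc,
    ← Spec.map_comp, Iso.hom_inv_id, Spec.map_id, Category.id_comp]

variable [IsAlgClosed K] {A : Over (Spec (CommRingCat.of K))} [GrpObj A] [IsProper A.hom]
  [GeometricallyIntegral A.hom]

section Sub

variable {L : A.left.Modules} (hL : PicF.IsInvertible L) (s : Coh.structureModule A.left ⟶ L)
  (hne : (CohB1.genLocus L s : Set A.left).Nonempty) {FX : Over (Spec (CommRingCat.of K))} (j : FX ⟶ A)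
  (hF : ∀ a : Pts A, ∀ x ∈ Set.range ⇑j.left, (rT a).left x ∈ CohB1.genLocus L s →
    ∀ y ∈ Set.range ⇑j.left, (rT a).left y ∈ CohB1.genLocus L s)

include hne hF in
/-- On a contracted subscheme every translate of the module is trivial. -/
theorem pb_translate_eq_one {σ₀ : Pts A} (h₀ : pt σ₀ ∈ Set.range ⇑j.left) (a : Pts A) :
    pb j.left (pb (rT a).left (PicGrp.cls L hL)) = 1 := by
  set c := PicGrp.cls L hL
  have hO : ∀ b : Pts A, pt (σ₀ * b) ∈ CohB1.genLocus L s → pb j.left (pb (rT b).left c) = 1 := by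
    intro b hb
    rw [← pb_comp]
    refine (pb_cls_eq_one_iff _ hL).2 ?_
    have htop : (j.left ≫ (rT b).left) ⁻¹ᵁ CohB1.genLocus L s = ⊤ := by
      refine TopologicalSpace.Opens.ext (Set.eq_univ_of_forall fun z => ?_)
      exact hF b (pt σ₀) h₀ (by rw [rT_pt]; exact hb) (j.left z) ⟨z, rfl⟩
    have hfr := (Amp73.isFrame_iff_le_genLocus (Amp73.pullHom (j.left ≫ (rT b).left) s) ⊤).2 (by
      rw [Amp73.genLocus_pullHom _ hL, htop])
    exact Cube73.iso_of_frame hfr
  have hψ : ∀ a : Pts A, pb j.left (pb (rT a).left c) = pb j.left c ^ 3 := by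
    intro a
    obtain ⟨b, hb, hd⟩ := exists_common_point hne σ₀ a
    have h := congrArg (pb j.left) (triple_pic c (_root_.mul_inv_cancel (a * b)))
    rwa [map_mul, map_mul, map_pow, hO b hb, hO _ hd, _root_.mul_one, _root_.mul_one] at h
  have : JacobsonSpace A.left := LocallyOfFiniteType.jacobsonSpace A.hom
  obtain ⟨w, hw, hwc⟩ := nonempty_inter_closedPoints hne (CohB1.genLocus L s).2.isLocallyClosed
  obtain ⟨p, rfl⟩ := exists_pt (A := A) w hwc
  have h1 := hO (σ₀⁻¹ * p) (by rw [mul_inv_cancel_left]; exact hw)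
  rw [hψ] at h1
  rw [hψ, h1]

variable [IsProper FX.hom] [IsIntegral FX.left]

include hne hF in
/-- All points of the subscheme give the same translate of the module. -/
theorem pb_translate_const {σ₀ σ : Pts FX} :
    pb (rT (σ ≫ j)).left (PicGrp.cls L hL) = pb (rT (σ₀ ≫ j)).left (PicGrp.cls L hL) := by
  have := isIntegral_left (A := A)
  have := geometricallyIntegral_of_isIntegral FX.hom
  set c := PicGrp.cls L hL
  let P := FX ⊗ A
  let π : P.left ⟶ A.left := (snd FX A).left
  have hgi : GeometricallyIntegral π := inferInstanceAs (GeometricallyIntegral (pullback.snd FX.hom A.hom))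
  have : IsProper π := inferInstanceAs (IsProper (pullback.snd FX.hom A.hom))
  have : Flat π := inferInstanceAs (Flat (pullback.snd FX.hom A.hom))
  have : IsLocallyNoetherian A.left := LocallyOfFiniteType.isLocallyNoetherian A.hom
  have : IsLocallyNoetherian P.left := LocallyOfFiniteType.isLocallyNoetherian π
  have : JacobsonSpace A.left := LocallyOfFiniteType.jacobsonSpace A.hom
  let m : P ⟶ A := (fst FX A ≫ j) * snd FX A
  let Q := (Scheme.Modules.pullback m.left).obj L
  have hQ : PicF.IsInvertible Q := PicLoc.isInvertible_pullback m.left hL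
  have hint : ∀ y, IsIntegral (π.fiber y) := fun y => inferInstance
  -- closed points
  have hclosed : ∀ y : A.left, IsClosed ({y} : Set A.left) →
      Nonempty ((Scheme.Modules.pullback (π.fiberι y)).obj Q ≅ Coh.structureModule (π.fiber y)) := by
    intro y hy
    obtain ⟨τ, rfl⟩ := exists_pt (A := A) y hy
    rw [← pb_cls_eq_one_iff _ hQ]
    let g := π.fiberι (pt τ)
    let W : Over (Spec (CommRingCat.of K)) := Over.mk (g ≫ P.hom)
    let w : W ⟶ P := Over.homMk g rfl
    have hsnd : w ≫ snd FX A = toUnit W ≫ τ := by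
      refine Over.OverMorphism.ext ?_
      show g ≫ π = (g ≫ P.hom) ≫ τ.left
      have e : g ≫ π = π.fiberToSpecResidueField (pt τ) ≫ A.left.fromSpecResidueField (pt τ) :=
        Scheme.Hom.fiber_fac π (pt τ)
      rw [← Over.w (snd FX A), ← Category.assoc g, Category.assoc (g ≫ π)]
      show g ≫ π = ((g ≫ π) ≫ A.hom) ≫ τ.left
      rw [e, fromSpecResidueField_pt τ]
      simp only [Category.assoc]
      rw [show τ.left ≫ A.hom ≫ τ.left = τ.left from by
        rw [← Category.assoc, Over.w τ]; exact Category.id_comp _]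
    have hwm : w ≫ m = ((w ≫ fst FX A) ≫ j) ≫ rT τ := by
      rw [comp_rT, MonObj.comp_mul, hsnd, Category.assoc]
    show pb w.left (pb m.left c) = 1
    rw [← pb_comp, ← Over.comp_left, hwm, Over.comp_left, Over.comp_left, pb_comp, pb_comp]
    obtain ⟨z⟩ := (inferInstance : Nonempty FX.left)
    have : JacobsonSpace FX.left := LocallyOfFiniteType.jacobsonSpace FX.hom
    obtain ⟨z', -, hz'⟩ := nonempty_inter_closedPoints (Z := (Set.univ : Set FX.left)) ⟨z, trivial⟩
      isClosed_univ.isLocallyClosed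
    obtain ⟨σ', -⟩ := exists_pt (A := FX) z' hz'
    rw [pb_translate_eq_one hL s hne j hF (σ₀ := σ' ≫ j)
      ⟨pt σ', by simp only [pt, Over.comp_left, Scheme.Hom.comp_apply]⟩ τ, map_one]
  obtain ⟨N, hN, ⟨e0⟩⟩ := An92.InvMod.exists_inverse hQ
  have e : CohB1.tensorMod Q N ≅ Coh.structureModule P.left := EGA73.tensComm _ _ ≪≫ e0
  have epull : ∀ y, Nonempty (CohB1.tensorMod ((Scheme.Modules.pullback (π.fiberι y)).obj Q)
      ((Scheme.Modules.pullback (π.fiberι y)).obj N) ≅ Coh.structureModule (π.fiber y)) := fun y => by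
    haveI := Amp73.isIso_pullTensHom (π.fiberι y) hQ hN
    exact ⟨(asIso (Amp73.pullTensHom (π.fiberι y) Q N)).symm ≪≫
      (Scheme.Modules.pullback (π.fiberι y)).mapIso e ≪≫ PicLoc.pullbackStructureIso _⟩
  have hsec : ∀ y, ¬ Cube73.NoSec π Q y ∧ ¬ Cube73.NoSec π N y := by
    have hc : ∀ y : A.left, IsClosed ({y} : Set A.left) → ¬ Cube73.NoSec π Q y ∧ ¬ Cube73.NoSec π N y := by
      intro y hy
      obtain ⟨i⟩ := hclosed y hy
      obtain ⟨ey⟩ := epull y
      have e2 : (Scheme.Modules.pullback (π.fiberι y)).obj N ≅ Coh.structureModule (π.fiber y) :=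
        (EGA73.tensUnitLeft _).symm ≪≫ (EGA73.tensIso i (Iso.refl _)).symm ≪≫ ey
      have := hint y
      exact ⟨fun h => (not_nontrivial_iff_subsingleton.2 h) (Cube73.nontrivial_of_iso i),
        fun h => (not_nontrivial_iff_subsingleton.2 h) (Cube73.nontrivial_of_iso e2)⟩
    have ho := (Cube73.isOpen_noSec π hQ).union (Cube73.isOpen_noSec π hN)
    intro y
    by_contra h
    have hy : y ∈ {y | Cube73.NoSec π Q y} ∪ {y | Cube73.NoSec π N y} := (not_and_or.1 h).imp not_not.1 not_not.1
    obtain ⟨z, hz, hzc⟩ := nonempty_inter_closedPoints ⟨y, hy⟩ ho.isLocallyClosed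
    exact hz.elim (hc z hzc).1 (hc z hzc).2
  have htriv : ∀ y, Nonempty ((Scheme.Modules.pullback (π.fiberι y)).obj Q ≅ Coh.structureModule (π.fiber y)) := by
    intro y
    obtain ⟨h1, h2⟩ := hsec y
    obtain ⟨s1, hs1⟩ := @exists_ne _ (not_subsingleton_iff_nontrivial.1 h1)
      (0 : Γ((Scheme.Modules.pullback (π.fiberι y)).obj Q, ⊤))
    obtain ⟨t1, ht1⟩ := @exists_ne _ (not_subsingleton_iff_nontrivial.1 h2)
      (0 : Γ((Scheme.Modules.pullback (π.fiberι y)).obj N, ⊤))
    obtain ⟨ey⟩ := epull y
    have := hint y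
    have : IsProper (π.fiberToSpecResidueField y) :=
      MorphismProperty.of_isPullback (IsPullback.of_hasPullback π _) (inferInstance : IsProper π)
    have hk : IsField Γ(π.fiber y, ⊤) :=
      isField_of_universallyClosed (A.left.residueField y) (π.fiberToSpecResidueField y)
    exact Cube73.iso_of_sections hk (PicLoc.isInvertible_pullback _ hQ) (PicLoc.isInvertible_pullback _ hN) ey
      hs1 ht1
  have : GeometricallyConnected π := FBase64.geometricallyConnected_of_geometricallyIrreducible π
  obtain ⟨hd, hcounit⟩ := Groth.Agent.S14419.result π Q hQ htriv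
  have hQd : pb m.left c = pb π (PicGrp.cls _ hd) := by
    show PicGrp.cls Q hQ = _
    rw [pb_cls, PicGrp.cls_eq_cls_iff]
    exact ⟨(asIso ((Scheme.Modules.pullbackPushforwardAdjunction π).counit.app Q)).symm⟩
  have key : ∀ σ : Pts FX, pb (rT (σ ≫ j)).left c = PicGrp.cls _ hd := by
    intro σ
    let v : A ⟶ P := lift (toUnit A ≫ σ) (𝟙 A)
    have hvm : v ≫ m = rT (σ ≫ j) := by
      have : GeometricallyConnected A.hom := FBase64.geometricallyConnected_of_geometricallyIrreducible _
      have : IsCommMonObj A := Groth.Agent.S7785.result A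
      rw [MonObj.comp_mul, lift_fst_assoc, lift_snd, Category.assoc, rT, _root_.mul_comm]
    have hvπ : v.left ≫ π = 𝟙 A.left := by
      show v.left ≫ (snd FX A).left = _
      rw [← Over.comp_left, lift_snd]
      rfl
    rw [← hvm, Over.comp_left, pb_comp, hQd, ← pb_comp, hvπ, AbSquare57.pb_id]
  rw [key σ, key σ₀]

end Sub

theorem isAmple_of_finite_fixing {L : A.left.Modules} (hL : PicF.IsInvertible L)
    (s : Coh.structureModule A.left ⟶ L) (hne : (CohB1.genLocus L s : Set A.left).Nonempty)
    (hnd : {a : Pts A | Nonempty ((Scheme.Modules.pullback (rT a).left).obj L ≅ L)}.Finite) :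
    CohB1.IsAmple L := by
  by_contra hna
  obtain ⟨F, hirr, hinf, hF⟩ := exists_contracted_differences hL s hne hna
  let incF := (Scheme.IdealSheafData.vanishingIdeal F).subschemeι
  have hrange : Set.range incF = (F : Set A.left) := by
    rw [Scheme.IdealSheafData.range_subschemeι, Scheme.IdealSheafData.coe_support_vanishingIdeal]
  let FX : Over (Spec (CommRingCat.of K)) := Over.mk (incF ≫ A.hom)
  let j : FX ⟶ A := Over.homMk incF rfl
  have : IsIntegral FX.left := Curves2.isIntegral_vanishingIdeal F hirr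
  have : IsProper FX.hom := inferInstanceAs (IsProper (incF ≫ A.hom))
  have hlift : ∀ σ : Pts A, pt σ ∈ F → ∃ σ' : Pts FX, σ' ≫ j = σ := by
    intro σ hσ
    obtain ⟨z, hz⟩ := hrange.ge hσ
    have hzc : IsClosed ({z} : Set FX.left) := by
      have h := (isClosed_pt σ).preimage incF.continuous
      have e : incF ⁻¹' {pt σ} = ({z} : Set FX.left) := by
        rw [← hz]
        exact Set.ext fun w => ⟨fun hw => incF.isClosedEmbedding.injective hw, fun hw => congrArg incF hw⟩
      exact e ▸ h
    obtain ⟨σ', hσ'⟩ := exists_pt (A := FX) z hzc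
    refine ⟨σ', pt_injective ?_⟩
    show (σ' ≫ j).left (IsLocalRing.closedPoint K) = _
    rw [Over.comp_left, Scheme.Hom.comp_apply]
    show incF (pt σ') = _
    rw [hσ', hz]
  have hj : ∀ a : Pts A, ∀ x ∈ Set.range ⇑j.left, (rT a).left x ∈ CohB1.genLocus L s →
      ∀ y ∈ Set.range ⇑j.left, (rT a).left y ∈ CohB1.genLocus L s := fun a x hx hxa y hy =>
    translate_dichotomy hL s hne hF a (hrange.le hx) hxa (hrange.le hy)
  obtain ⟨σ₀, h₀⟩ := hinf.nonempty
  obtain ⟨σ₀', hσ₀'⟩ := hlift σ₀ h₀
  refine ((hinf.image (f := fun σ => σ * σ₀⁻¹) (fun a _ b _ h => mul_right_cancel h)).mono ?_) hnd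
  rintro _ ⟨σ, hσ, rfl⟩
  obtain ⟨σ', hσ'⟩ := hlift σ hσ
  have hc := pb_translate_const hL s hne j hj (σ₀ := σ₀') (σ := σ')
  rw [hσ', hσ₀'] at hc
  have hsq : pb (rT (σ * σ₀⁻¹ * σ₀)).left (PicGrp.cls L hL) * PicGrp.cls L hL =
      pb (rT (σ * σ₀⁻¹)).left (PicGrp.cls L hL) * pb (rT σ₀).left (PicGrp.cls L hL) :=
    AbSquare57.square _ _ _
  rw [inv_mul_cancel_right, hc, _root_.mul_comm (pb (rT σ₀).left _)] at hsq
  have heq := mul_right_cancel hsq
  rw [pb_cls, PicGrp.cls_eq_cls_iff] at heq
  exact heq.map Iso.symm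

end Groth.Agent.Ampl73
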