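import Groth.Agent.Var76.RegPow
import Groth.Agent.An92.Ample.Family
import Groth.Agent.Curves2.IdealFrame
import Groth.Prelude.Def_ClSub2

/-!
The canonical section of `O(D)` for an effective Cartier divisor `D`: it generates exactly off `D`.
-/

set_option autoImplicit false
universe u

open CategoryTheory CategoryTheory.Limits AlgebraicGeometry TopologicalSpace Opposite

noncomputable section

namespace Groth.Agent.Ampl73

open Var76.LineBundle Var76.ZeroScheme Amp73

theorem exists_section_compl {X : Scheme.{u}} {I : X.IdealSheafData} (hI : BlowUp.IsEffCartierIdeal I)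
    {L : X.Modules} (hL : PicF.IsInvertible L) (hLI : ClSub.IsInverseOf L (ClSub.idealMod I)) :
    ∃ s : Coh.structureModule X ⟶ L, (CohB1.genLocus L s : Set X) = (I.support : Set X)ᶜ := by
  obtain ⟨θ⟩ := hLI
  let θ' : CohB1.tensorMod (ClSub.idealMod I) L ≅ Coh.structureModule X := EGA73.tensComm _ _ ≪≫ θ
  let s : Coh.structureModule X ⟶ L := θ'.inv ≫ Var76.Reg.idealInc I L
  refine ⟨s, Set.ext fun y => ?_⟩
  obtain ⟨U, hyU, f, hf, hIU⟩ := hI y
  obtain ⟨W, hyW, hWU, e, he⟩ := Mero90.exists_affine_frame hL y U.1 hyU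
  obtain ⟨a, ha⟩ := Curves2.exists_idealSect_of_mem I U (r := f) (hIU ▸ Ideal.mem_span_singleton_self f)
  have hfa := Curves2.isFrame_of_span I U hf hIU a ha
  have ht := isFrame_tm (hfa.res hWU) he
  let one : Γ(Coh.structureModule X, W.1) := (1 : Γ(X, W.1))
  obtain ⟨c, hc⟩ : ∃ c : Γ(X, W.1), c • tm (ClSub.idealMod I) L (res _ hWU a) e = θ'.inv.app W.1 one := by
    obtain ⟨c, hc⟩ := (ht W.1 le_rfl).2 (θ'.inv.app W.1 one)
    dsimp only at hc
    rw [res_self] at hc
    exact ⟨c, hc⟩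
  have hcu : IsUnit c := by
    refine (isFrame_smul_iff ht c).1 ?_
    rw [hc, isFrame_app_iff]
    exact isFrame_one W.1
  have hval : (c * X.presheaf.map (homOfLE hWU).op f) • e = val L s W.1 := by
    show _ = (Var76.Reg.idealInc I L).app W.1 (θ'.inv.app W.1 one)
    rw [← hc, Scheme.Modules.Hom.app_smul, Var76.Reg.idealInc_tm, Curves2.idealSect_res, ha, smul_smul]
  have h := genLocus_inf_eq_basicOpen s he hval
  rw [Scheme.basicOpen_mul, X.basicOpen_of_isUnit hcu, inf_eq_right.2 (X.basicOpen_le _)] at h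
  rw [SetLike.mem_coe, Set.mem_compl_iff, SetLike.mem_coe, An92.AmpleFam.notMem_support_iff U hIU hyU,
    ← Scheme.mem_basicOpen X f y hyU]
  have h2 : y ∈ X.basicOpen (X.presheaf.map (homOfLE hWU).op f) ↔ y ∈ X.basicOpen f := by
    rw [Scheme.basicOpen_res]
    exact ⟨fun hh => hh.2, fun hh => ⟨hyW, hh⟩⟩
  rw [← h2, ← h]
  exact ⟨fun hh => ⟨hh, hyW⟩, fun hh => hh.1⟩

end Groth.Agent.Ampl73
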