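import Groth.Agent.Ampl73.Group
import Groth.Agent.Ampl73.Section

/-!
An effective Cartier divisor whose components have a finite common stabiliser is ample.
-/

set_option autoImplicit false
set_option backward.isDefEq.respectTransparency.types false
universe u

open CategoryTheory CategoryTheory.Limits MonoidalCategory CartesianMonoidalCategory MonObj AlgebraicGeometry
open TopologicalSpace

noncomputable section

namespace Groth.Agent.Ampl73

variable {K : Type u} [Field K] [IsAlgClosed K] {A : Over (Spec (CommRingCat.of K))} [GrpObj A] [IsProper A.hom]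
  [GeometricallyIntegral A.hom]

omit [IsAlgClosed K] [IsProper A.hom] [GeometricallyIntegral A.hom] in
/-- A translation preserving a closed set permutes its components. -/
theorem image_component (g : Pts A) {D : Set A.left} (hD : ⇑(rT g).left ⁻¹' D = D)
    {Z : Set D} (hZ : Z ∈ irreducibleComponents ↥D) :
    ⇑(rT g).left '' (Subtype.val '' Z) ∈ (fun Z : Set D => Subtype.val '' Z) '' irreducibleComponents ↥D := by
  let h : D ≃ₜ D := (rT g).left.homeomorph.subtype fun x => by
    show x ∈ D ↔ x ∈ ⇑(rT g).left ⁻¹' D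
    rw [hD]
  refine ⟨h '' Z, image_mem_irreducibleComponents_of_isPreirreducible_fiber h h.continuous h.isOpenMap
    (fun x => (Set.subsingleton_singleton.preimage h.injective).isPreirreducible) h.surjective hZ, ?_⟩
  show Subtype.val '' (h '' Z) = _
  rw [Set.image_image, Set.image_image]
  rfl

omit [IsAlgClosed K] [GeometricallyIntegral A.hom] in
theorem infinite_stabilizer {F : Closeds A.left} (hFinf : {σ : Pts A | pt σ ∈ F}.Infinite) {D : Set A.left}
    (hpres : ∀ σ₀ σ : Pts A, pt σ₀ ∈ F → pt σ ∈ F → ⇑(rT (σ * σ₀⁻¹)).left ⁻¹' D = D) :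
    {a : Pts A | ∀ Z ∈ irreducibleComponents ↥D,
      ⇑(rT a).left '' (Subtype.val '' Z) = Subtype.val '' Z}.Infinite := by
  classical
  have : IsLocallyNoetherian A.left := LocallyOfFiniteType.isLocallyNoetherian A.hom
  have : CompactSpace A.left := QuasiCompact.compactSpace_of_compactSpace A.hom
  have : AlgebraicGeometry.IsNoetherian A.left := {}
  have : NoetherianSpace D := (Topology.IsInducing.subtypeVal).noetherianSpace
  have hcomp := NoetherianSpace.finite_irreducibleComponents (α := D)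
  have : Finite (irreducibleComponents ↥D) := hcomp.to_subtype
  obtain ⟨σ₀, h₀⟩ := hFinf.nonempty
  let S : Set (Pts A) := (fun σ => σ * σ₀⁻¹) '' {σ : Pts A | pt σ ∈ F}
  have hS : S.Infinite := hFinf.image (fun a _ b _ h => mul_right_cancel h)
  let C : Set (Set A.left) := (fun Z : Set D => Subtype.val '' Z) '' irreducibleComponents ↥D
  let Φ : Pts A → (irreducibleComponents ↥D → Set A.left) :=
    fun g Z => ⇑(rT g).left '' (Subtype.val '' Z.1)
  have hΦ : (Φ '' S).Finite := by
    refine (Set.Finite.pi fun _ : irreducibleComponents ↥D => hcomp.image (fun Z : Set D => Subtype.val '' Z)).subset ?_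
    rintro _ ⟨g, ⟨σ, hσ, rfl⟩, rfl⟩ Z -
    exact image_component _ (hpres σ₀ σ h₀ hσ) Z.2
  obtain ⟨φ, hφ⟩ : ∃ φ, (S ∩ Φ ⁻¹' {φ}).Infinite := by
    by_contra hh
    push Not at hh
    refine hS (((hΦ.biUnion fun φ _ => hh φ)).subset fun g hg => ?_)
    exact Set.mem_iUnion₂.2 ⟨Φ g, ⟨g, hg, rfl⟩, hg, rfl⟩
  obtain ⟨g, hg, hgφ⟩ := hφ.nonempty
  refine ((hφ.image (f := fun g' => g' * g⁻¹) (fun a _ b _ h => mul_right_cancel h)).mono ?_)
  rintro _ ⟨g', ⟨hg', hg'φ⟩, rfl⟩ Z hZ
  have he : Φ g' ⟨Z, hZ⟩ = Φ g ⟨Z, hZ⟩ := by rw [show Φ g' = φ from hg'φ, show Φ g = φ from hgφ]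
  calc ⇑(rT (g' * g⁻¹)).left '' (Subtype.val '' Z)
      = ⇑(rT g⁻¹).left '' (Φ g' ⟨Z, hZ⟩) := by
        rw [Set.image_image (rT g⁻¹).left]
        exact Set.image_congr fun x _ => (rT_apply_apply g' g⁻¹ x).symm
    _ = ⇑(rT g⁻¹).left '' (Φ g ⟨Z, hZ⟩) := by rw [he]
    _ = Subtype.val '' Z := by
        rw [Set.image_image (rT g⁻¹).left]
        refine (Set.image_congr fun x _ => ?_).trans (Set.image_id _)
        rw [rT_apply_apply, _root_.mul_inv_cancel, rT_one]
        rfl

theorem isAmple_of_finite_stabilizer {I : A.left.IdealSheafData} (hI : BlowUp.IsEffCartierIdeal I)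
    {L : A.left.Modules} (hL : PicF.IsInvertible L) (hLI : ClSub.IsInverseOf L (ClSub.idealMod I))
    (hb : {a : Pts A | ∀ Z ∈ irreducibleComponents ↥(I.support : Set A.left),
      ⇑(rT a).left '' (Subtype.val '' Z) = Subtype.val '' Z}.Finite) : CohB1.IsAmple L := by
  by_contra hna
  have := isIntegral_left (A := A)
  obtain ⟨s, hs⟩ := exists_section_compl hI hL hLI
  have hne : (CohB1.genLocus L s : Set A.left).Nonempty := by
    rw [hs]
    obtain ⟨x⟩ := (inferInstance : Nonempty A.left)
    obtain ⟨U, hxU, f, hf, hIU⟩ := hI x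
    have hf0 : A.left.basicOpen f ≠ ⊥ := by
      intro h
      have : Nonempty U.1 := ⟨⟨x, hxU⟩⟩
      exact nonZeroDivisors.ne_zero hf ((basicOpen_eq_bot_iff f).1 h)
    obtain ⟨y, hy⟩ : (A.left.basicOpen f : Set A.left).Nonempty :=
      Set.nonempty_iff_ne_empty.2 fun h => hf0 (TopologicalSpace.Opens.ext h)
    exact ⟨y, (An92.AmpleFam.notMem_support_iff U hIU (A.left.basicOpen_le f hy)).2
      ((Scheme.mem_basicOpen A.left f y _).1 hy)⟩
  obtain ⟨F, -, hinf, hF⟩ := exists_contracted_differences hL s hne hna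
  refine infinite_stabilizer hinf (D := (I.support : Set A.left)) (fun σ₀ σ h₀ h => ?_) hb
  have h1 := congrArg (fun V : A.left.Opens => ((V : Set A.left))ᶜ) (diff_preserves hL s hne hF h₀ h)
  change (⇑(rT (σ * σ₀⁻¹)).left ⁻¹' (CohB1.genLocus L s : Set A.left))ᶜ = (CohB1.genLocus L s : Set A.left)ᶜ at h1
  rwa [hs, Set.preimage_compl, compl_compl, compl_compl] at h1

end Groth.Agent.Ampl73
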